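import Mathlib
import Cfsg.Agent.FGS.SecRank
import Cfsg.Agent.PLocal.AmbSyl
import Cfsg.Agent.PLocal.PStable
import Cfsg.Agent.PLocal.ParChar
import Cfsg.Agent.Spor.ModRep

/-! Extensions of 2-groups by simple groups in sectional rank four: basic tools. -/

set_option autoImplicit false
set_option linter.unusedSectionVars false
set_option linter.style.haveILetI false

namespace Cfsg.Agent.GHE
open Cfsg Subgroup Cfsg.Agent.PLocal.Amb
open scoped commutatorElement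

variable {G : Type*} [Group G]

/-- The subgroup generated by the squares. -/
def Sq (R : Subgroup G) : Subgroup G := closure {y | ∃ x ∈ R, y = x * x}

theorem sq_mem_Sq {R : Subgroup G} {x : G} (hx : x ∈ R) : x * x ∈ Sq R :=
  subset_closure ⟨x, hx, rfl⟩

theorem Sq_le_iff {R N : Subgroup G} : Sq R ≤ N ↔ ∀ x ∈ R, x * x ∈ N := by
  rw [Sq, closure_le]
  exact ⟨fun h x hx => h ⟨x, hx, rfl⟩, fun h _ ⟨x, hx, e⟩ => e ▸ h x hx⟩

theorem Sq_le (R : Subgroup G) : Sq R ≤ R := Sq_le_iff.2 fun _ hx => mul_mem hx hx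

theorem comm_mem_of_sq {N H : Subgroup G} (h : ∀ x ∈ H, x * x ∈ N) {a b : G} (ha : a ∈ H)
    (hb : b ∈ H) : a * b * a⁻¹ * b⁻¹ ∈ N := by
  have := mul_mem (mul_mem (h a ha) (h _ (mul_mem (inv_mem ha) hb))) (h _ (inv_mem hb))
  convert this using 1
  group

theorem comm_of_sq {H : Subgroup G} (h : ∀ x ∈ H, x * x = 1) {a b : G} (ha : a ∈ H)
    (hb : b ∈ H) : a * b = b * a := by
  have := comm_mem_of_sq (N := ⊥) (fun x hx => mem_bot.2 (h x hx)) ha hb
  rw [mem_bot] at this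
  calc a * b = (a * b * a⁻¹ * b⁻¹) * (b * a) := by group
    _ = b * a := by rw [this, one_mul]

theorem Sq_map {H : Type*} [Group H] (f : G →* H) (R : Subgroup G) :
    Sq (R.map f) = (Sq R).map f := by
  refine le_antisymm (Sq_le_iff.2 ?_) (map_le_iff_le_comap.2 (Sq_le_iff.2 fun x hx => ?_))
  · rintro _ ⟨x, hx, rfl⟩
    exact ⟨x * x, sq_mem_Sq hx, map_mul _ _ _⟩
  · rw [mem_comap, map_mul]
    exact sq_mem_Sq ⟨x, hx, rfl⟩

theorem norm_Sq {R : Subgroup G} {g : G} (hg : g ∈ 𝐍[R]) : g ∈ 𝐍[Sq R] := by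
  rw [← cj_eq_iff] at hg ⊢
  exact (Sq_map _ R).symm.trans (congrArg Sq hg)

instance Sq_normal (R : Subgroup G) [R.Normal] : (Sq R).Normal :=
  normalizer_eq_top_iff.1 (eq_top_iff.2 fun g _ => norm_Sq (by rw [normalizer_eq_top]; trivial))

theorem Sq_le_frattini [Finite G] {R : Subgroup G} (hR : IsPGroup 2 R) :
    Sq R ≤ (frattini R).map R.subtype :=
  Sq_le_iff.2 fun x hx => ⟨(⟨x, hx⟩ : R) ^ 2, Grp.PFrattini.pow_mem_frattini hR _, by simp [sq]⟩

theorem bound [Finite G] (hr : SectionalPRankLE 2 4 G) {N H : Subgroup G} (hNH : N ≤ H)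
    (h : ∀ x ∈ H, x * x ∈ N) : Nat.card H ≤ 16 * Nat.card N := by
  have h1 := FGS.SecRank.relIndex_le hr (N := N) (H := H)
    (commutator_le.2 fun a ha b hb => comm_mem_of_sq h ha hb) (fun x hx => by rw [sq]; exact h x hx)
  have h2 := (N.subgroupOf H).card_mul_index
  rw [Nat.card_congr (subgroupOfEquivOfLe hNH).toEquiv] at h2
  rw [← h2, mul_comm]
  exact Nat.mul_le_mul_right _ h1

theorem card_modEq [Finite G] {p : ℕ} [Fact p.Prime] {A : Subgroup G} {x : G} (hx : x ^ p = 1)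
    (hn : x ∈ 𝐍[A]) : Nat.card A ≡ Nat.card ↥(A ⊓ centralizer {x}) [MOD p] := by
  rw [← centralizer_zpowers]
  have hP : IsPGroup p (zpowers x) := isPGroup_zpowers ⟨1, by simpa using hx⟩
  have hle : zpowers x ≤ 𝐍[A] := zpowers_le.2 hn
  let : MulAction (zpowers x) A := MulAction.compHom A
    ((normalizerMonoidHom A).comp (inclusion hle))
  refine (hP.card_modEq_card_fixedPoints A).trans ?_
  refine (Nat.card_congr ?_ : _ = Nat.card ↥(A ⊓ 𝐂[zpowers x])) ▸ Nat.ModEq.refl _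
  refine ⟨fun a => ⟨a.1, a.1.2, fun u hu => ?_⟩, fun a => ⟨⟨a.1, a.2.1⟩, fun u => ?_⟩,
    fun _ => rfl, fun _ => rfl⟩
  · have : u * a.1 * u⁻¹ = a.1 := congrArg Subtype.val (a.2 ⟨u, hu⟩)
    exact mul_inv_eq_iff_eq_mul.1 this
  · exact Subtype.ext (mul_inv_eq_iff_eq_mul.2 (a.2.2 u u.2))

theorem card_lt_of_not_mem [Finite G] {A B : Subgroup G} (h : A ≤ B) {x : G} (hx : x ∈ B)
    (hA : x ∉ A) : Nat.card A < Nat.card B :=
  lt_of_le_of_ne (card_le_of_le h) fun e => hA (eq_of_le_of_card_ge h e.ge ▸ hx)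

theorem card_map_mk [Finite G] {W R : Subgroup G} [W.Normal] (h : W ≤ R) :
    Nat.card R = Nat.card (R.map (QuotientGroup.mk' W)) * Nat.card W := by
  have := card_mul_index (W.subgroupOf R)
  rw [Nat.card_congr (subgroupOfEquivOfLe h).toEquiv] at this
  rw [← this, mul_comm, ← relIndex, ← relIndex_ker, QuotientGroup.ker_mk']

/-- The elements of `R` fixed by `e` modulo `W`. -/
def fixMod (R W : Subgroup G) [W.Normal] (e : G) : Subgroup G :=
  R ⊓ (centralizer {QuotientGroup.mk' W e}).comap (QuotientGroup.mk' W)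

theorem mem_fixMod {R W : Subgroup G} [W.Normal] {e r : G} :
    r ∈ fixMod R W e ↔ r ∈ R ∧ e * r * e⁻¹ * r⁻¹ ∈ W := by
  rw [fixMod, mem_inf, mem_comap, mem_centralizer_singleton_iff,
    ← QuotientGroup.eq_one_iff (N := W)]
  refine and_congr_right fun _ => ?_
  simp only [QuotientGroup.mk'_apply, QuotientGroup.mk_mul, QuotientGroup.mk_inv,
    one_mul, mul_inv_eq_iff_eq_mul]
  exact eq_comm

theorem le_fixMod {R W : Subgroup G} [hW : W.Normal] (h : W ≤ R) (e : G) : W ≤ fixMod R W e :=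
  fun w hw => mem_fixMod.2 ⟨h hw, mul_mem (hW.conj_mem w hw e) (inv_mem hw)⟩

/-- An element of odd prime order `p` acting on a section: the orders. -/
theorem fixMod_card [Finite G] {p : ℕ} [Fact p.Prime] {R W : Subgroup G} [W.Normal] (h : W ≤ R)
    (hR : IsPGroup 2 R) {e : G} (he : e ^ p ∈ W) (hn : e ∈ 𝐍[R]) :
    ∃ a c : ℕ, c ≤ a ∧ 2 ^ a ≡ 2 ^ c [MOD p] ∧ Nat.card R = 2 ^ a * Nat.card W ∧
      Nat.card (fixMod R W e) = 2 ^ c * Nat.card W := by
  let π := QuotientGroup.mk' W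
  have h1 := card_modEq (p := p) (A := R.map π) (x := π e)
    (by rw [← map_pow]; exact (QuotientGroup.eq_one_iff _).2 he) (le_normalizer_map π ⟨e, hn, rfl⟩)
  have h2 : (fixMod R W e).map π = R.map π ⊓ centralizer {π e} := by
    ext y
    constructor
    · rintro ⟨x, hx, rfl⟩
      exact ⟨⟨x, hx.1, rfl⟩, hx.2⟩
    · rintro ⟨⟨x, hx, rfl⟩, h2⟩
      exact ⟨x, ⟨hx, h2⟩, rfl⟩
  obtain ⟨a, ha⟩ := IsPGroup.iff_card.1 (hR.map π)
  obtain ⟨c, hc⟩ := IsPGroup.iff_card.1 ((hR.map π).to_le (inf_le_left (b := centralizer {π e})))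
  refine ⟨a, c, ?_, by rw [← ha, ← hc]; exact h1, by rw [card_map_mk h, ha],
    by rw [card_map_mk (le_fixMod h e), h2, hc]⟩
  have := card_le_of_le (inf_le_left (a := R.map π) (b := centralizer {π e}))
  rw [ha, hc] at this
  exact (Nat.pow_le_pow_iff_right (by norm_num)).1 this

theorem fix_pre [Finite G] {p : ℕ} [Fact p.Prime] {R W : Subgroup G} [W.Normal] (h : W ≤ R)
    (hR : IsPGroup 2 R) (h16 : Nat.card R ≤ 16 * Nat.card W) {e : G} (he : e ^ p ∈ W)
    (hn : e ∈ 𝐍[R]) (hne : ∃ r ∈ R, e * r * e⁻¹ * r⁻¹ ∉ W) :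
    ∃ a c : ℕ, c < a ∧ a ≤ 4 ∧ 2 ^ a ≡ 2 ^ c [MOD p] ∧ Nat.card R = 2 ^ a * Nat.card W ∧
      Nat.card (fixMod R W e) = 2 ^ c * Nat.card W := by
  obtain ⟨a, c, h1, h2, h3, h4⟩ := fixMod_card h hR he hn
  obtain ⟨r, hr, hr'⟩ := hne
  have h5 := card_lt_of_not_mem (A := fixMod R W e) (B := R) inf_le_left hr
    fun e => hr' (mem_fixMod.1 e).2
  rw [h3, h4] at h5
  rw [h3] at h16
  refine ⟨a, c, (Nat.pow_lt_pow_iff_right (by norm_num)).1 (lt_of_mul_lt_mul_right h5 (by omega)),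
    ?_, h2, h3, h4⟩
  exact (Nat.pow_le_pow_iff_right (by norm_num)).1
    (Nat.le_of_mul_le_mul_right (show 2 ^ a * _ ≤ 2 ^ 4 * _ from h16) Nat.card_pos)

theorem fpf5 [Finite G] {R W : Subgroup G} [W.Normal] (h : W ≤ R)
    (hR : IsPGroup 2 R) (h16 : Nat.card R ≤ 16 * Nat.card W) {e : G} (he : e ^ 5 ∈ W)
    (hn : e ∈ 𝐍[R]) (hne : ∃ r ∈ R, e * r * e⁻¹ * r⁻¹ ∉ W) :
    Nat.card R = 16 * Nat.card W ∧ ∀ r ∈ R, e * r * e⁻¹ * r⁻¹ ∈ W → r ∈ W := by
  haveI : Fact (Nat.Prime 5) := ⟨by norm_num⟩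
  obtain ⟨a, c, h1, h2, h3, h4, h5⟩ := fix_pre h hR h16 he hn hne
  have : a = 4 ∧ c = 0 := by
    interval_cases a <;> interval_cases c <;> simp_all [Nat.ModEq]
  obtain ⟨rfl, rfl⟩ := this
  refine ⟨h4, fun r hr h6 => ?_⟩
  rw [eq_of_le_of_card_ge (le_fixMod h e) (by rw [h5]; simp)]
  exact mem_fixMod.2 ⟨hr, h6⟩

theorem fix7 [Finite G] {R W : Subgroup G} [W.Normal] (h : W ≤ R)
    (hR : IsPGroup 2 R) (h16 : Nat.card R ≤ 16 * Nat.card W) {e : G} (he : e ^ 7 ∈ W)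
    (hn : e ∈ 𝐍[R]) (hne : ∃ r ∈ R, e * r * e⁻¹ * r⁻¹ ∉ W) :
    (Nat.card R = 8 * Nat.card W ∧ Nat.card (fixMod R W e) = Nat.card W) ∨
      (Nat.card R = 16 * Nat.card W ∧ Nat.card (fixMod R W e) = 2 * Nat.card W) := by
  haveI : Fact (Nat.Prime 7) := ⟨by norm_num⟩
  obtain ⟨a, c, h1, h2, h3, h4, h5⟩ := fix_pre h hR h16 he hn hne
  have : (a = 3 ∧ c = 0) ∨ (a = 4 ∧ c = 1) := by
    interval_cases a <;> interval_cases c <;> simp_all [Nat.ModEq]
  rcases this with ⟨rfl, rfl⟩ | ⟨rfl, rfl⟩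
  · exact Or.inl ⟨h4, by simpa using h5⟩
  · exact Or.inr ⟨h4, by simpa using h5⟩

/-- A minimal normal subgroup inside a normal 2-subgroup. -/
theorem exists_min [Finite G] {R M : Subgroup G} [R.Normal] [M.Normal] (hR : IsPGroup 2 R)
    (hM : M ≤ R) (h1 : M ≠ ⊥) : ∃ N : Subgroup G, N.Normal ∧ N ≠ ⊥ ∧ N ≤ M ∧
      (∀ x ∈ N, x * x = 1) ∧ (∀ x ∈ N, ∀ r ∈ R, r * x = x * r) ∧
      ∀ K : Subgroup G, K.Normal → K ≤ N → K = ⊥ ∨ K = N := by
  obtain ⟨N, ⟨hn, hb, hle⟩, hmin⟩ := exists_minimal_of_wellFoundedLT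
    (fun N : Subgroup G => N.Normal ∧ N ≠ ⊥ ∧ N ≤ M) ⟨M, inferInstance, h1, le_rfl⟩
  have hm : ∀ K : Subgroup G, K.Normal → K ≤ N → K = ⊥ ∨ K = N := fun K hK hKN => by
    by_cases e : K = ⊥
    · exact Or.inl e
    · exact Or.inr (le_antisymm hKN (hmin ⟨hK, e, hKN.trans hle⟩ hKN))
  obtain ⟨z, hz, hzc, ho⟩ := PLocal.WC.exists_orderOf_eq_centralizer hR (hR.to_le (hle.trans hM))
    (by rw [normalizer_eq_top]; exact le_top) hb
  let K : Subgroup G :=
    { carrier := {x | x ∈ N ∧ x * x = 1 ∧ ∀ r ∈ R, r * x = x * r}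
      one_mem' := ⟨one_mem _, by simp, by simp⟩
      mul_mem' := by
        rintro a b ⟨ha, ha2, hac⟩ ⟨hb, hb2, hbc⟩
        refine ⟨mul_mem ha hb, ?_, fun r hr => ?_⟩
        · have := hbc a (hM (hle ha))
          calc a * b * (a * b) = a * (b * a) * b := by group
            _ = (a * a) * (b * b) := by rw [← this]; group
            _ = 1 := by rw [ha2, hb2, one_mul]
        · rw [← mul_assoc, hac r hr, mul_assoc, hbc r hr, mul_assoc]
      inv_mem' := by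
        rintro a ⟨ha, ha2, hac⟩
        rw [inv_eq_of_mul_eq_one_right ha2]
        exact ⟨ha, ha2, hac⟩ }
  have hK : K.Normal := ⟨by
    rintro a ⟨ha, ha2, hac⟩ g
    refine ⟨hn.conj_mem a ha g, ?_, fun r hr => ?_⟩
    · calc g * a * g⁻¹ * (g * a * g⁻¹) = g * (a * a) * g⁻¹ := by group
        _ = 1 := by rw [ha2]; group
    · have := hac (g⁻¹ * r * g) (by simpa using (inferInstance : R.Normal).conj_mem r hr g⁻¹)
      calc r * (g * a * g⁻¹) = g * (g⁻¹ * r * g * a) * g⁻¹ := by group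
        _ = _ := by rw [this]; group⟩
  have hzK : z ∈ K := ⟨hz, by rw [← sq, ← ho, pow_orderOf_eq_one], fun r hr => hzc r hr⟩
  have : K = N := (hm K hK fun x hx => hx.1).resolve_left fun e => by
    rw [e, mem_bot] at hzK
    rw [hzK, orderOf_one] at ho
    norm_num at ho
  exact ⟨N, hn, hb, hle, fun x hx => (this.ge hx).2.1, fun x hx => (this.ge hx).2.2, hm⟩

/-! ### Coordinates on an elementary abelian section -/

/-- Coordinates on the section `R / W`. -/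
structure Co {n m : ℕ} (R W : Subgroup G) (c : G → (Fin n → ZMod m))
    (ρ : G →* Matrix (Fin n) (Fin n) (ZMod m)) : Prop where
  mul : ∀ x ∈ R, ∀ y ∈ R, c (x * y) = c x + c y
  zero : ∀ x ∈ R, (c x = 0 ↔ x ∈ W)
  surj : ∀ v, ∃ x ∈ R, c x = v
  conj : ∀ g, ∀ x ∈ R, c (g * x * g⁻¹) = (ρ g).mulVec (c x)

theorem co_of_hom {n m : ℕ} {R W : Subgroup G} [hR : R.Normal] [hW : W.Normal]
    (φ : R →* Multiplicative (Fin n → ZMod m)) (hs : Function.Surjective φ)
    (hk : ∀ x : R, φ x = 1 ↔ (x : G) ∈ W) :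
    ∃ (c : G → (Fin n → ZMod m)) (ρ : G →* Matrix (Fin n) (Fin n) (ZMod m)), Co R W c ρ := by
  classical
  let c : G → (Fin n → ZMod m) := fun x => if h : x ∈ R then (φ ⟨x, h⟩).toAdd else 0
  have hc : ∀ x (h : x ∈ R), c x = (φ ⟨x, h⟩).toAdd := fun x h => dif_pos h
  have hmul : ∀ x ∈ R, ∀ y ∈ R, c (x * y) = c x + c y := fun x hx y hy => by
    rw [hc x hx, hc y hy, hc _ (mul_mem hx hy), ← toAdd_mul, ← map_mul]; rfl
  have hz : ∀ x ∈ R, (c x = 0 ↔ x ∈ W) := fun x hx => by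
    rw [hc x hx, toAdd_eq_zero, hk]
  have hsu : ∀ v, ∃ x ∈ R, c x = v := fun v => by
    obtain ⟨x, hx⟩ := hs (Multiplicative.ofAdd v)
    exact ⟨x, x.2, by rw [hc x x.2, hx]; rfl⟩
  have hinv : ∀ x ∈ R, c x⁻¹ = - c x := fun x hx => by
    rw [eq_neg_iff_add_eq_zero, ← hmul _ (inv_mem hx) _ hx, inv_mul_cancel]
    exact (hz 1 (one_mem _)).2 (one_mem _)
  choose s hs1 hs2 using hsu
  have hT : ∀ g, ∀ x ∈ R, c (g * s (c x) * g⁻¹) = c (g * x * g⁻¹) := fun g x hx => by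
    have h1 : x⁻¹ * s (c x) ∈ W := (hz _ (mul_mem (inv_mem hx) (hs1 _))).1
      (by rw [hmul _ (inv_mem hx) _ (hs1 _), hinv x hx, hs2, neg_add_cancel])
    have h2 := (hz _ (hR.conj_mem _ (mul_mem (inv_mem hx) (hs1 _)) g)).2 (hW.conj_mem _ h1 g)
    rw [show g * s (c x) * g⁻¹ = g * x * g⁻¹ * (g * (x⁻¹ * s (c x)) * g⁻¹) by group,
      hmul _ (hR.conj_mem _ hx g) _ (hR.conj_mem _ (mul_mem (inv_mem hx) (hs1 _)) g), h2, add_zero]
  let A : G → (Fin n → ZMod m) →+ (Fin n → ZMod m) := fun g =>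
    AddMonoidHom.mk' (fun v => c (g * s v * g⁻¹)) fun v w => by
      have := hT g _ (mul_mem (hs1 v) (hs1 w))
      rw [hmul _ (hs1 v) _ (hs1 w), hs2, hs2] at this
      rw [this, ← hmul _ (hR.conj_mem _ (hs1 v) g) _ (hR.conj_mem _ (hs1 w) g)]
      congr 1; group
  let L : G →* Module.End (ZMod m) (Fin n → ZMod m) :=
    { toFun := fun g => (A g).toZModLinearMap m
      map_one' := LinearMap.ext fun v => by
        change c (1 * s v * 1⁻¹) = v
        simpa using hs2 v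
      map_mul' := fun g h => LinearMap.ext fun v => by
        change c (g * h * s v * (g * h)⁻¹) = c (g * s (c (h * s v * h⁻¹)) * g⁻¹)
        rw [hT g _ (hR.conj_mem _ (hs1 v) h)]
        congr 1; group }
  refine ⟨c, (LinearMap.toMatrixAlgEquiv' (R := ZMod m) (n := Fin n)).toRingEquiv.toMonoidHom.comp L,
    hmul, hz, fun v => ⟨s v, hs1 v, hs2 v⟩, fun g x hx => ?_⟩
  rw [← hT g x hx]
  change L g (c x) = Matrix.mulVec (LinearMap.toMatrix' (L g)) _
  rw [← Matrix.toLin'_apply, Matrix.toLin'_toMatrix']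

theorem exists_co [Finite G] {n : ℕ} {R W : Subgroup G} [hR : R.Normal] [hW : W.Normal]
    (h : W ≤ R) (hsq : ∀ x ∈ R, x * x ∈ W) (hc : Nat.card R = 2 ^ n * Nat.card W) :
    ∃ (c : G → (Fin n → ZMod 2)) (ρ : G →* Matrix (Fin n) (Fin n) (ZMod 2)), Co R W c ρ := by
  let π := QuotientGroup.mk' W
  let V := R.map π
  have h2 : ∀ x ∈ V, x * x = 1 := by
    rintro _ ⟨x, hx, rfl⟩
    rw [← map_mul]
    exact (QuotientGroup.eq_one_iff _).2 (hsq x hx)
  let _ : CommGroup V := { mul_comm := fun a b => Subtype.ext (comm_of_sq h2 a.2 b.2) }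
  let _ : Module (ZMod 2) (Additive V) := AddCommGroup.zmodModule (n := 2) fun x =>
    show x.toMul ^ 2 = 1 from Subtype.ext (by rw [sq]; exact h2 _ x.toMul.2)
  have hr : Module.finrank (ZMod 2) (Additive V) = Module.finrank (ZMod 2) (Fin n → ZMod 2) := by
    have h1 := Module.natCard_eq_pow_finrank (K := ZMod 2) (V := Additive V)
    rw [Nat.card_zmod, show Nat.card (Additive V) = Nat.card V from rfl] at h1
    rw [card_map_mk h, h1] at hc
    simpa using Nat.pow_right_injective le_rfl (Nat.eq_of_mul_eq_mul_right Nat.card_pos hc)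
  let e := LinearEquiv.ofFinrankEq _ _ hr
  let φ : R →* Multiplicative (Fin n → ZMod 2) :=
    (AddMonoidHom.toMultiplicativeRight e.toLinearMap.toAddMonoidHom).comp (π.subgroupMap R)
  refine co_of_hom φ ?_ fun x => ?_
  · intro v
    obtain ⟨y, hy⟩ := e.surjective v.toAdd
    obtain ⟨x, hx⟩ := π.subgroupMap_surjective R y.toMul
    refine ⟨x, ?_⟩
    change Multiplicative.ofAdd (e (Additive.ofMul (π.subgroupMap R x))) = v
    rw [hx]
    exact congrArg Multiplicative.ofAdd hy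
  · change e (Additive.ofMul (π.subgroupMap R x)) = 0 ↔ _
    rw [e.map_eq_zero_iff, ← QuotientGroup.eq_one_iff]
    exact Subtype.ext_iff

namespace Co
variable {n m : ℕ} {R W : Subgroup G} {c : G → (Fin n → ZMod m)}
  {ρ : G →* Matrix (Fin n) (Fin n) (ZMod m)} (h : Co R W c ρ)
include h

theorem one (hW : W ≤ R) {w : G} (hw : w ∈ W) : c w = 0 := (h.zero w (hW hw)).2 hw

theorem c_one : c 1 = 0 := (h.zero 1 (one_mem _)).2 (one_mem _)

theorem inv {x : G} (hx : x ∈ R) : c x⁻¹ = - c x := by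
  rw [eq_neg_iff_add_eq_zero, ← h.mul _ (inv_mem hx) _ hx, inv_mul_cancel, h.c_one]

theorem eq_iff {x y : G} (hx : x ∈ R) (hy : y ∈ R) : c x = c y ↔ x * y⁻¹ ∈ W := by
  rw [← h.zero _ (mul_mem hx (inv_mem hy)), h.mul _ hx _ (inv_mem hy), h.inv hy, ← sub_eq_add_neg,
    sub_eq_zero]

theorem pow {x : G} (hx : x ∈ R) (k : ℕ) : c (x ^ k) = k • c x := by
  induction k with
  | zero => simpa using h.c_one
  | succ k ih => rw [pow_succ, h.mul _ (pow_mem hx k) _ hx, ih, succ_nsmul]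

theorem rho_eq_one_iff [hR : R.Normal] {g : G} :
    ρ g = 1 ↔ ∀ x ∈ R, g * x * g⁻¹ * x⁻¹ ∈ W := by
  refine ⟨fun e x hx => ?_, fun e => ?_⟩
  · rw [← h.eq_iff (hR.conj_mem x hx g) hx, h.conj g x hx, e, Matrix.one_mulVec]
  · refine Matrix.ext_of_mulVec_single fun i => ?_
    obtain ⟨x, hx, hv⟩ := h.surj (Pi.single i 1)
    rw [← hv, ← h.conj g x hx, Matrix.one_mulVec, h.eq_iff (hR.conj_mem x hx g) hx]
    exact e x hx

theorem rho_of_mem [hR : R.Normal] {g : G} (hg : g ∈ R) : ρ g = 1 :=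
  h.rho_eq_one_iff.2 fun x hx => by
    rw [← h.eq_iff (hR.conj_mem x hx g) hx, h.mul _ (mul_mem hg hx) _ (inv_mem hg), h.mul _ hg _ hx,
      h.inv hg]
    abel

/-- The preimage of an additive subgroup. -/
def pre (U : AddSubgroup (Fin n → ZMod m)) : Subgroup G where
  carrier := {x | x ∈ R ∧ c x ∈ U}
  one_mem' := ⟨one_mem _, by rw [h.c_one]; exact zero_mem _⟩
  mul_mem' := fun {a b} ha hb =>
    ⟨mul_mem ha.1 hb.1, by rw [h.mul _ ha.1 _ hb.1]; exact add_mem ha.2 hb.2⟩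
  inv_mem' := fun {a} ha => ⟨inv_mem ha.1, by rw [h.inv ha.1]; exact neg_mem ha.2⟩

theorem mem_pre {U : AddSubgroup (Fin n → ZMod m)} {x : G} : x ∈ h.pre U ↔ x ∈ R ∧ c x ∈ U :=
  Iff.rfl

theorem card_pre (hW : W ≤ R) (U : AddSubgroup (Fin n → ZMod m)) :
    Nat.card (h.pre U) = Nat.card U * Nat.card W := by
  let φ : h.pre U →* Multiplicative U := MonoidHom.mk'
    (fun x => Multiplicative.ofAdd ⟨c x, x.2.2⟩) fun a b => Subtype.ext (h.mul _ a.2.1 _ b.2.1)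
  have h1 : Function.Surjective φ := fun v => by
    obtain ⟨x, hx, e⟩ := h.surj v.toAdd
    exact ⟨⟨x, hx, e ▸ v.toAdd.2⟩, Subtype.ext e⟩
  have h2 : φ.ker = W.subgroupOf (h.pre U) := by
    ext x
    rw [mem_subgroupOf, ← h.zero _ x.2.1]
    exact Subtype.ext_iff
  have h3 : W ≤ h.pre U := fun w hw => ⟨hW hw, by rw [h.one hW hw]; exact zero_mem _⟩
  rw [← φ.ker.card_mul_index, index_ker, MonoidHom.range_eq_top.2 h1, card_top, h2,
    Nat.card_congr (subgroupOfEquivOfLe h3).toEquiv, mul_comm]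
  rfl

end Co

/-! ### Extensions -/

variable {S : Type*} [Group S]

theorem ker_or_top [IsSimpleGroup S] {π : G →* S} (hs : Function.Surjective π) {M : Subgroup G}
    [hM : M.Normal] (h : π.ker ≤ M) : M = π.ker ∨ M = ⊤ := by
  rcases (hM.map π hs).eq_bot_or_eq_top with e | e
  · exact Or.inl (le_antisymm ((Subgroup.map_eq_bot_iff _).1 e) h)
  · right
    rw [← comap_map_eq_self h, e, comap_top]

theorem exists_lift_pow [Finite G] {π : G →* S} (hs : Function.Surjective π)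
    (h2 : IsPGroup 2 π.ker) {p : ℕ} (hp : p.Prime) (ho : p ≠ 2) {s : S} (h : s ^ p = 1) :
    ∃ e, π e = s ∧ e ^ p = 1 := by
  obtain ⟨x, rfl⟩ := hs s
  obtain ⟨k, hk⟩ := isPGroup_iff.1 h2 (x ^ p) (by rw [MonoidHom.mem_ker, map_pow, h])
  have hc : Nat.Coprime (2 ^ k) p := Nat.Coprime.pow_left _ ((Nat.coprime_primes Nat.prime_two hp).2 ho.symm)
  obtain ⟨m, -, hm⟩ := Nat.exists_mul_mod_eq_one_of_coprime hc hp.one_lt
  refine ⟨x ^ (2 ^ k * m), ?_, ?_⟩
  · rw [map_pow, ← Nat.div_add_mod (2 ^ k * m) p, hm, pow_add, pow_mul, h, one_pow, one_mul, pow_one]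
  · rw [← pow_mul, show 2 ^ k * m * p = p * 2 ^ k * m by ring, pow_mul, pow_mul, hk, one_pow]

theorem exists_lift_norm [Finite G] {π : G →* S} (hs : Function.Surjective π)
    (h2 : IsPGroup 2 π.ker) {p : ℕ} (hp : p.Prime) (ho : p ≠ 2) {e : G} (he : e ^ p = 1)
    (h1 : π e ≠ 1) {s : S} {k : ℕ} (h : s * π e * s⁻¹ = π e ^ k) :
    ∃ t, π t = s ∧ t * e * t⁻¹ = e ^ k := by
  haveI : Fact p.Prime := ⟨hp⟩
  obtain ⟨x, rfl⟩ := hs s
  have hN : zpowers e ≤ 𝐍[π.ker] := by rw [normalizer_eq_top]; exact le_top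
  have o1 : orderOf (π e) = p := orderOf_eq_prime (by rw [← map_pow, he, map_one]) h1
  have o2 : orderOf e = p := orderOf_eq_prime he fun e0 => h1 (by rw [e0, map_one])
  have hT : IsSyl p (zpowers e) (π.ker ⊔ zpowers e) := by
    refine isSyl_of_not_dvd_relIndex (isPGroup_zpowers ⟨1, by simpa using he⟩) le_sup_right ?_
    obtain ⟨a, ha⟩ := IsPGroup.iff_card.1 h2
    have e1 := card_mul_index ((zpowers e).subgroupOf (π.ker ⊔ zpowers e))
    have e2 := card_mul_index (π.ker.subgroupOf (π.ker ⊔ zpowers e))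
    rw [Nat.card_congr (subgroupOfEquivOfLe le_sup_right).toEquiv, Nat.card_zpowers, o2,
      ← relIndex] at e1
    rw [Nat.card_congr (subgroupOfEquivOfLe le_sup_left).toEquiv, ← relIndex, relIndex_sup_left,
      relIndex_ker, MonoidHom.map_zpowers, Nat.card_zpowers, o1, ← e1, mul_comm, ha] at e2
    rw [← Nat.eq_of_mul_eq_mul_left hp.pos e2]
    exact fun this =>
      ho ((Nat.prime_dvd_prime_iff_eq hp Nat.prime_two).1 (hp.dvd_of_dvd_pow this))
  have hL : π.ker ⊔ zpowers e = (zpowers (π e)).comap π := by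
    rw [← MonoidHom.map_zpowers, comap_map_eq, sup_comm]
  have hx : x ∈ 𝐍[π.ker ⊔ zpowers e] := by
    refine mem_normalizer_of_cj_le (cj_le_iff_forall.2 fun y hy => ?_)
    rw [hL, mem_comap] at hy ⊢
    obtain ⟨i, hi⟩ := hy
    rw [map_mul, map_mul, map_inv, ← hi, ← conj_zpow, h]
    exact zpow_mem (pow_mem (mem_zpowers _) _) _
  obtain ⟨n, hn, y, hy, e1⟩ := hT.frattini hx
  obtain ⟨r, hr, u, hu, rfl⟩ := (mem_sup_of_le_normalizer_left hN).1 hn
  have hπ : π (u * y) = π x := by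
    rw [e1, mul_assoc, map_mul π r, MonoidHom.mem_ker.1 hr, one_mul]
  refine ⟨u * y, hπ, ?_⟩
  obtain ⟨i, hi⟩ := mem_zpowers_iff.1
    (conj_mem_of_mem_normalizer (mul_mem (le_normalizer hu) hy) (mem_zpowers e))
  have h3 : π e ^ i = π e ^ (k : ℤ) := by
    rw [← map_zpow, hi, map_mul, map_mul, map_inv, hπ, h, zpow_natCast]
  rw [← hi, ← zpow_natCast, zpow_eq_zpow_iff_modEq, o2, ← o1, ← zpow_eq_zpow_iff_modEq]
  exact h3

/-- Faithful action on the Frattini quotient of the kernel. -/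
def Faith (π : G →* S) : Prop :=
  ∀ g, (∀ r ∈ π.ker, g * r * g⁻¹ * r⁻¹ ∈ Sq π.ker) → g ∈ π.ker

/-- The kernel of the action on a section. -/
def actKer (R W : Subgroup G) [hW : W.Normal] : Subgroup G where
  carrier := {g | ∀ r ∈ R, g * r * g⁻¹ * r⁻¹ ∈ W}
  one_mem' := fun r _ => by simp
  mul_mem' := fun {a b} ha hb r hr => by
    convert mul_mem (hW.conj_mem _ (hb r hr) a) (ha r hr) using 1; group
  inv_mem' := fun {a} ha r hr => by
    convert inv_mem (hW.conj_mem _ (ha r hr) a⁻¹) using 1; group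

theorem mem_actKer {R W : Subgroup G} [W.Normal] {g : G} :
    g ∈ actKer R W ↔ ∀ r ∈ R, g * r * g⁻¹ * r⁻¹ ∈ W := Iff.rfl

instance actKer_normal (R W : Subgroup G) [hR : R.Normal] [hW : W.Normal] : (actKer R W).Normal :=
  ⟨fun a ha g r hr => by
    convert hW.conj_mem _ (ha _ (hR.conj_mem r hr g⁻¹)) g using 1; group⟩

theorem faith_of_charP [Finite G] [IsSimpleGroup S] {π : G →* S} (hs : Function.Surjective π)
    (h2 : IsPGroup 2 π.ker) (hC : 𝐂[π.ker] ≤ π.ker) (hS : ¬ IsPGroup 2 S) : Faith π := by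
  rcases ker_or_top hs (M := actKer π.ker (Sq π.ker))
    (fun g hg r hr => comm_mem_of_sq (fun x hx => sq_mem_Sq hx) hg hr) with e | e
  · exact fun g hg => e ▸ hg
  · refine absurd (fun s => ?_) hS
    obtain ⟨x, rfl⟩ := hs s
    obtain ⟨j, hj⟩ := PLocal.exists_pow_mem_centralizer_of_frattini h2 (x := x)
      (by rw [normalizer_eq_top]; trivial) fun k hk => Sq_le_frattini h2 (e.ge trivial k hk)
    exact ⟨j, by rw [← map_pow]; exact hC hj⟩

theorem ker_lift {π : G →* S} (N : Subgroup G) [N.Normal] (h : N ≤ π.ker) :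
    (QuotientGroup.lift N π h).ker = π.ker.map (QuotientGroup.mk' N) := QuotientGroup.ker_lift _ _ _

theorem Faith.lift {π : G →* S} (hf : Faith π) (N : Subgroup G) [N.Normal] (h : N ≤ Sq π.ker) :
    Faith (QuotientGroup.lift N π (h.trans (Sq_le _))) := by
  intro g hg
  obtain ⟨g, rfl⟩ := QuotientGroup.mk'_surjective N g
  rw [ker_lift] at hg ⊢
  refine ⟨g, hf g fun r hr => ?_, rfl⟩
  have := hg _ ⟨r, hr, rfl⟩
  rw [Sq_map, ← map_inv, ← map_inv, ← map_mul, ← map_mul, ← map_mul, ← mem_comap,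
    comap_map_eq_self (by rwa [QuotientGroup.ker_mk'])] at this
  exact this

theorem card_quot_lt [Finite G] (N : Subgroup G) [N.Normal] (h : N ≠ ⊥) :
    Nat.card (G ⧸ N) < Nat.card G := by
  have h1 := N.card_mul_index
  have h2 := (one_lt_card_iff_ne_bot N).2 h
  have h3 : 0 < N.index := Nat.pos_of_ne_zero index_ne_zero_of_finite
  change N.index < _
  nlinarith

end Cfsg.Agent.GHE
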