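import Mathlib
import Cfsg.Agent.Loc3.PD
import Cfsg.Agent.KSG.QsAlt
import Cfsg.Agent.Gold.IntBase
import Cfsg.Agent.Char.Burnside
import Cfsg.Agent.Solv.Misc1
import Cfsg.Agent.GHE.Base
import Cfsg.Agent.S0494
import Cfsg.Agent.S0495
import Cfsg.Agent.S0496
import Cfsg.Agent.S0255
import Cfsg.Agent.S2119

/-!
Nonsolvable subgroups of the alternating group of degree 8 with trivial 2-core.
-/

set_option autoImplicit false

namespace Cfsg.Agent.GHE

open Equiv Equiv.Perm Subgroup Cfsg.Agent.PLocal.Amb Cfsg.Agent.Loc3 Cfsg.Agent.KSG Function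

local notation "P8" => Perm (Fin 8)

def s7 : P8 := swap 0 1 * swap 1 2 * swap 2 3 * swap 3 4 * swap 4 5 * swap 5 6
def s5 : P8 := swap 0 1 * swap 1 2 * swap 2 3 * swap 3 4
def s3 : P8 := swap 5 6 * swap 6 7

instance pv_s7 : PV s7 0x70654321 :=
  PV.of_beq (σ := swap 0 1 * swap 1 2 * swap 2 3 * swap 3 4 * swap 4 5 * swap 5 6) _
    (by decide +kernel)
instance pv_s5 : PV s5 0x76504321 :=
  PV.of_beq (σ := swap 0 1 * swap 1 2 * swap 2 3 * swap 3 4) _ (by decide +kernel)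
instance pv_s3 : PV s3 0x57643210 := PV.of_beq (σ := swap 5 6 * swap 6 7) _ (by decide +kernel)

theorem a8_c7 : ∀ σ : P8, Commute σ s7 → σ ^ 7 = 1 := pd!

theorem a8_n7 {k : ℕ} (hk : k < 7) : ∀ σ : P8, σ * s7 * σ⁻¹ = s7 ^ k →
    sign σ = 1 → σ ^ 21 = 1 := by
  interval_cases k <;> exact pd!

theorem a8_c5 : ∀ σ : P8, Commute σ s5 → sign σ = 1 → σ ^ 15 = 1 := pd!

theorem a8_c53 : ∀ σ : P8, Commute σ s5 → σ ^ 9 = 1 → σ = 1 ∨ σ = s3 ∨ σ = s3⁻¹ := pd!

theorem a8_fix : ∀ σ : P8, sign σ = 1 → σ 0 = 0 → σ 1 = 1 → σ 2 = 2 → σ 3 = 3 → σ 4 = 4 →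
    σ = 1 ∨ σ = s3 ∨ σ = s3⁻¹ := fun σ h h0 h1 h2 h3 h4 => by
  have : Commute σ s5 := by
    have c : ∀ i j : Fin 8, σ i = i → σ j = j → Commute σ (swap i j) := fun i j a b => by
      rw [Commute, SemiconjBy, mul_swap_eq_swap_mul, a, b]
    exact (((c _ _ h0 h1).mul_right (c _ _ h1 h2)).mul_right (c _ _ h2 h3)).mul_right (c _ _ h3 h4)
  revert σ
  exact fun σ h h0 h1 h2 h3 h4 c => (show ∀ σ : P8, Commute σ s5 → sign σ = 1 → σ 0 = 0 →
    σ = 1 ∨ σ = s3 ∨ σ = s3⁻¹ from pd!) σ c h h0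

theorem a8_conj {p : ℕ} (hp : p.Prime) (h4 : 4 < p) {x s : P8} (hx : x ^ p = 1) (h1 : x ≠ 1)
    (hs : s ^ p = 1) (h2 : s.support.card = p) : ∃ g : P8, g * x * g⁻¹ = s := by
  refine isConj_iff.1 (isConj_of_supp hp hx hs ?_)
  obtain ⟨k, hk⟩ := dvd_supp hp hx
  have h3 : x.support.card ≤ 8 := (Finset.card_le_univ _).trans (by simp)
  have h5 : x.support.card ≠ 0 := fun e => h1 (support_eq_empty_iff.1 (Finset.card_eq_zero.1 e))
  rw [h2]
  rcases k with _ | _ | k
  · omega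
  · omega
  · nlinarith

variable {Q : Type*} [Group Q]

/-- An embedding into the alternating group of degree 8. -/
structure Emb (f : Q →* P8) : Prop where
  inj : Injective f
  ev : ∀ q, sign (f q) = 1

theorem cop_of_pow [Finite Q] {n p : ℕ} (hp : p.Prime) (h : ∀ y : Q, y ^ n = 1) (hn : ¬ p ∣ n) :
    (Nat.card Q).Coprime p := by
  have := Fact.mk hp
  rw [Nat.coprime_comm, hp.coprime_iff_not_dvd]
  intro e
  obtain ⟨y, hy⟩ := exists_prime_orderOf_dvd_card' p e
  exact hn (hy ▸ orderOf_dvd_of_pow_eq_one (h y))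

theorem exists_restr {Ω : Type*} [DecidableEq Ω] [Fintype Ω] (f : Q →* Perm Ω) (D : Finset Ω)
    (hD : ∀ q x, f q x ∈ D ↔ x ∈ D) {n : ℕ} (hn : D.card = n) :
    ∃ r : Q →* Perm (Fin n), ∀ q, r q = 1 ↔ ∀ x ∈ D, f q x = x := by
  subst hn
  let r : Q →* Perm D := MonoidHom.mk' (fun q => (f q).subtypePerm (hD q)) fun a b => by
    ext x; simp only [map_mul]; rfl
  refine ⟨(Equiv.permCongrHom D.equivFin).toMonoidHom.comp r, fun q => ?_⟩
  rw [MonoidHom.comp_apply, MulEquiv.coe_toMonoidHom, MulEquiv.map_eq_one_iff]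
  refine ⟨fun h x hx => congrArg (fun s : Perm D => (s ⟨x, hx⟩ : Ω)) h, fun h => ?_⟩
  ext x
  exact h x x.2

theorem alt_or_sym [Finite Q] {n : ℕ} (r : Q →* Perm (Fin n)) (hi : Injective r)
    (h : n.factorial ≤ 2 * Nat.card Q) :
    Nonempty (Q ≃* alternatingGroup (Fin n)) ∨ Nonempty (Q ≃* Perm (Fin n)) := by
  have e := (MonoidHom.ofInjective hi)
  have h1 := r.range.index_mul_card
  rw [← Nat.card_congr e.toEquiv, Nat.card_perm, Nat.card_fin] at h1
  have h2 : r.range.index ≠ 0 := index_ne_zero_of_finite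
  have h3 : 0 < Nat.card Q := Nat.card_pos
  have h4 : r.range.index ≤ 2 := by nlinarith
  rcases (by omega : r.range.index = 1 ∨ r.range.index = 2) with h5 | h5
  · exact Or.inr ⟨e.trans ((MulEquiv.subgroupCongr (index_eq_one.1 h5)).trans topEquiv)⟩
  · exact Or.inl ⟨e.trans (MulEquiv.subgroupCongr (eq_alternatingGroup_of_index_eq_two h5))⟩

theorem sixty_le [Finite Q] (h : ¬ Group.IsSolvable Q) (hd : Nat.card Q ∣ 120) :
    60 ≤ Nat.card Q := by
  by_contra e
  have b := fun p q a b hp hq => mt (@Char.isSolvable_of_card_dvd_pow_mul_pow p q a b hp hq Q _ _) h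
  have b1 := b 2 3 3 1 Nat.prime_two Nat.prime_three
  have b2 := b 2 5 3 1 Nat.prime_two Nat.prime_five
  have b3 := b 3 5 1 1 Nat.prime_three Nat.prime_five
  have b4 : Nat.card Q ≠ 30 := fun e => by
    have := IsZGroup.of_squarefree (G := Q) (by rw [e]; decide +kernel)
    exact h inferInstance
  generalize Nat.card Q = n at *
  have : n < 60 := by omega
  interval_cases n <;> omega

namespace Emb
variable {f : Q →* P8} (E : Emb f)
include E

theorem sub (H : Subgroup Q) : Emb (f.comp H.subtype) :=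
  ⟨E.inj.comp H.subtype_injective, fun q => E.ev q⟩

theorem cj (g : P8) : Emb ((MulAut.conj g).toMonoidHom.comp f) :=
  ⟨(MulAut.conj g).injective.comp E.inj, fun q => by
    simp [E.ev q, Int.units_mul_self]⟩

theorem card_dvd : Nat.card Q ∣ 20160 := by
  have := card_dvd_of_injective (f.codRestrict (alternatingGroup (Fin 8)) E.ev)
    fun a b h => E.inj (congrArg Subtype.val h)
  rwa [nat_card_alternatingGroup, Nat.card_fin] at this

theorem norm7 {x : Q} (hx : x ^ 7 = 1) (h1 : x ≠ 1) : ∃ f : Q →* P8, Emb f ∧ f x = s7 := by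
  obtain ⟨g, hg⟩ := a8_conj (p := 7) (by norm_num) (by norm_num) (x := f x) (s := s7)
    (by rw [← map_pow, hx, map_one]) (fun e => h1 (E.inj (e.trans f.map_one.symm))) pd! pd!
  exact ⟨_, E.cj g, hg⟩

theorem norm5 {x : Q} (hx : x ^ 5 = 1) (h1 : x ≠ 1) : ∃ f : Q →* P8, Emb f ∧ f x = s5 := by
  obtain ⟨g, hg⟩ := a8_conj (p := 5) (by norm_num) (by norm_num) (x := f x) (s := s5)
    (by rw [← map_pow, hx, map_one]) (fun e => h1 (E.inj (e.trans f.map_one.symm))) pd! pd!
  exact ⟨_, E.cj g, hg⟩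

theorem c7 {x y : Q} (hx : x ^ 7 = 1) (h1 : x ≠ 1) (h : Commute y x) : y ^ 7 = 1 := by
  obtain ⟨f, E, e⟩ := E.norm7 hx h1
  exact E.inj (by rw [map_pow, map_one]; exact a8_c7 _ (e ▸ h.map f))

theorem c5 {x y : Q} (hx : x ^ 5 = 1) (h1 : x ≠ 1) (h : Commute y x) : y ^ 15 = 1 := by
  obtain ⟨f, E, e⟩ := E.norm5 hx h1
  exact E.inj (by rw [map_pow, map_one]; exact a8_c5 _ (e ▸ h.map f) (E.ev y))

theorem n7 {x y : Q} (hx : x ^ 7 = 1) (h1 : x ≠ 1) (h : y * x * y⁻¹ ∈ zpowers x) :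
    y ^ 21 = 1 := by
  classical
  obtain ⟨f, E, e⟩ := E.norm7 hx h1
  have ho : orderOf x = 7 := by
    have := Fact.mk (by norm_num : Nat.Prime 7)
    exact orderOf_eq_prime hx h1
  obtain ⟨k, hk, hk'⟩ : ∃ k < 7, y * x * y⁻¹ = x ^ k := by
    have := (isOfFinOrder_iff_pow_eq_one.2 ⟨7, by norm_num, hx⟩).mem_zpowers_iff_mem_range_orderOf.1 h
    simp only [Finset.mem_image, Finset.mem_range, ho] at this
    obtain ⟨k, a, b⟩ := this
    exact ⟨k, a, b.symm⟩
  have h2 : f y * s7 * (f y)⁻¹ = s7 ^ k := by rw [← e, ← map_pow, ← hk']; simp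
  exact E.inj (by rw [map_pow, map_one]; exact a8_n7 hk _ h2 (E.ev y))

theorem ex57 [Finite Q] (h : ¬ Group.IsSolvable Q) : ∃ x : Q, x ≠ 1 ∧ (x ^ 5 = 1 ∨ x ^ 7 = 1) := by
  by_contra e
  push Not at e
  have c : ∀ p, p.Prime → p = 5 ∨ p = 7 → (Nat.card Q).Coprime p := fun p hp h => by
    have := Fact.mk hp
    rw [Nat.coprime_comm, hp.coprime_iff_not_dvd]
    intro d
    obtain ⟨y, hy⟩ := exists_prime_orderOf_dvd_card' p d
    have h1 : y ≠ 1 := fun e => hp.one_lt.ne' (by rw [← hy, e, orderOf_one])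
    have h2 := pow_orderOf_eq_one y
    rw [hy] at h2
    rcases h with rfl | rfl
    exacts [(e y h1).1 h2, (e y h1).2 h2]
  exact h (Char.isSolvable_of_card_dvd_pow_mul_pow (a := 6) (b := 2) Nat.prime_two Nat.prime_three Q
    ((c 5 (by norm_num) (by simp)).dvd_of_dvd_mul_right
      ((c 7 (by norm_num) (by simp)).dvd_of_dvd_mul_right E.card_dvd)))

theorem solv [Finite Q] (h : (∀ y : Q, y ^ 15 = 1) ∨ ∀ y : Q, y ^ 21 = 1) : Group.IsSolvable Q := by
  rcases h with h | h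
  · exact Char.isSolvable_of_card_dvd_pow_mul_pow (a := 2) (b := 1) Nat.prime_three Nat.prime_five Q
      (((cop_of_pow Nat.prime_two h (by norm_num)).pow_right 6).dvd_of_dvd_mul_right
        ((cop_of_pow (p := 7) (by norm_num) h (by norm_num)).dvd_of_dvd_mul_right
          E.card_dvd))
  · exact Char.isSolvable_of_card_dvd_pow_mul_pow (a := 2) (b := 1) Nat.prime_three
      (by norm_num : Nat.Prime 7) Q
      (((cop_of_pow Nat.prime_two h (by norm_num)).pow_right 6).dvd_of_dvd_mul_right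
        ((cop_of_pow Nat.prime_five h (by norm_num)).dvd_of_dvd_mul_right
          E.card_dvd))

theorem solv_cen [Finite Q] {x : Q} (h1 : x ≠ 1) (hx : x ^ 5 = 1 ∨ x ^ 7 = 1) {L : Subgroup Q}
    (h : ∀ y ∈ L, Commute y x) : Group.IsSolvable L := by
  refine (E.sub L).solv (hx.imp (fun hx y => Subtype.ext (E.c5 hx h1 (h y y.2))) fun hx y => ?_)
  refine Subtype.ext ?_
  rw [show 21 = 7 * 3 from rfl, pow_mul, Subgroup.coe_pow, Subgroup.coe_pow, E.c7 hx h1 (h y y.2), one_pow]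
  rfl

theorem core_eq [Finite Q] (h : ¬ Group.IsSolvable Q) {p : ℕ} (hp : p = 5 ∨ p = 7) :
    pCore p Q = ⊥ := by
  have pp : p.Prime := by rcases hp with rfl | rfl <;> norm_num
  have := Fact.mk pp
  obtain ⟨k, hk⟩ := IsPGroup.iff_card.1 (Grp.pCore_isPGroup p Q)
  have h1 := (card_subgroup_dvd_card (pCore p Q)).trans E.card_dvd
  rw [hk] at h1
  rcases k with _ | _ | k
  · exact card_eq_one.1 hk
  · rw [zero_add, pow_one] at hk
    have := isCyclic_of_prime_card hk
    obtain ⟨x, hx, h2⟩ := (bot_or_exists_ne_one (pCore p Q)).resolve_left fun e => by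
      rw [e, card_bot] at hk
      exact pp.one_lt.ne hk
    have h3 : x ^ p = 1 := by
      rw [← hk]; exact congrArg Subtype.val (pow_card_eq_one' (x := (⟨x, hx⟩ : pCore p Q)))
    have := E.solv_cen h2 (hp.imp (fun e => by rwa [e] at h3) fun e => by rwa [e] at h3) (L := commutator Q)
      fun y hy => (Solv.commutator_le_centralizer_of_isCyclic (pCore p Q) hy x hx).symm
    refine absurd ((Group.isSolvable_iff_subgroup_quotient (commutator Q)).2 ⟨this, ?_⟩) h
    exact inferInstanceAs (Group.IsSolvable (Abelianization Q))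
  · have := (pow_dvd_pow p (by omega : 2 ≤ k + 1 + 1)).trans h1
    rcases hp with rfl | rfl <;> norm_num at this

theorem three [Finite Q] (h : ¬ Group.IsSolvable Q) {N : Subgroup Q} [N.Normal]
    (hN : IsPGroup 3 N) (h3 : N ≠ ⊥) :
    Nat.card N = 3 ∧ (Nonempty (Q ⧸ N ≃* alternatingGroup (Fin 5)) ∨
      Nonempty (Q ⧸ N ≃* Perm (Fin 5))) := by
  have := Fact.mk Nat.prime_three
  obtain ⟨k, hk⟩ := IsPGroup.iff_card.1 hN
  have h1 : Nat.card N ∣ 9 := by
    have h1 := (card_subgroup_dvd_card N).trans E.card_dvd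
    rw [hk] at h1 ⊢
    exact (Nat.Coprime.pow_left k (by norm_num : Nat.Coprime 3 2240)).dvd_of_dvd_mul_right h1
  have h9 : ∀ n ∈ N, n ^ 9 = 1 := fun n hn =>
    orderOf_dvd_iff_pow_eq_one.1 ((N.orderOf_dvd_natCard hn).trans h1)
  obtain ⟨y, y1, hy⟩ := E.ex57 h
  have hc : ∀ n ∈ N, Commute n y := by
    have h2 : Nat.card ↥(N ⊓ centralizer {y}) ∣ Nat.card N := card_dvd_of_le inf_le_left
    have h4 : Nat.card N ≡ Nat.card ↥(N ⊓ centralizer {y}) [MOD 5] ∨
        Nat.card N ≡ Nat.card ↥(N ⊓ centralizer {y}) [MOD 7] := by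
      have := Fact.mk Nat.prime_five
      have := Fact.mk (by norm_num : Nat.Prime 7)
      exact hy.imp (fun e => card_modEq e (le_normalizer_of_normal (mem_top _)))
        fun e => card_modEq e (le_normalizer_of_normal (mem_top _))
    have h5 : N ⊓ centralizer {y} = N := eq_of_le_of_card_ge inf_le_left (by
      have h6 := Nat.le_of_dvd (by norm_num) h1
      have h7 := Nat.le_of_dvd (by norm_num) (h2.trans h1)
      unfold Nat.ModEq at h4
      generalize Nat.card ↥(N ⊓ centralizer {y}) = a at *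
      generalize Nat.card N = b at *
      interval_cases a <;> interval_cases b <;> omega)
    exact fun n hn => mem_centralizer_singleton_iff.1 (h5.ge hn).2
  obtain ⟨n, hn, n1⟩ := (bot_or_exists_ne_one N).resolve_left h3
  rcases hy with hy | hy
  swap
  · have a := E.c7 hy y1 (hc n hn)
    have b := h9 n hn
    refine absurd ?_ n1
    rw [← pow_one n, show 1 = Nat.gcd 7 9 from rfl]
    exact pow_gcd_eq_one.2 ⟨a, b⟩
  clear hk
  obtain ⟨f, E, e⟩ := E.norm5 hy y1
  have t : ∀ n ∈ N, f n = 1 ∨ f n = s3 ∨ f n = s3⁻¹ := fun n hn =>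
    a8_c53 _ (e ▸ (hc n hn).map f) (by rw [← map_pow, h9 n hn, map_one])
  obtain ⟨n, hn, fn⟩ : ∃ n ∈ N, f n = s3 := by
    rcases t n hn with a | a | a
    · exact absurd (E.inj (a.trans f.map_one.symm)) n1
    · exact ⟨n, hn, a⟩
    · exact ⟨n⁻¹, inv_mem hn, by rw [map_inv, a, inv_inv]⟩
  have t' : ∀ q, f q = 1 ∨ f q = s3 ∨ f q = s3⁻¹ → q ∈ zpowers n := fun q hq => by
    rcases hq with a | a | a
    · rw [E.inj (a.trans f.map_one.symm)]; exact one_mem _
    · rw [E.inj (a.trans fn.symm)]; exact mem_zpowers n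
    · rw [E.inj (a.trans (by rw [map_inv, fn]) : f q = f n⁻¹)]; exact inv_mem (mem_zpowers n)
  have eN : N = zpowers n := le_antisymm (fun q hq => t' q (t q hq)) (zpowers_le.2 hn)
  have d1 : ∀ x : Fin 8, x ∈ ({0, 1, 2, 3, 4} : Finset (Fin 8)) ↔ s3 x = x := by decide +kernel
  have d2 : ∀ x : Fin 8, x ∈ ({0, 1, 2, 3, 4} : Finset (Fin 8)) ↔ s3⁻¹ x = x := by decide +kernel
  have s1 : s3 ≠ 1 := pd!
  obtain ⟨r, hr⟩ := exists_restr f {0, 1, 2, 3, 4} (fun q x => by
    have a : f (q * n * q⁻¹) (f q x) = f q x ↔ s3 x = x := by simp [fn]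
    rw [d1 x, ← a]
    rcases t _ ((inferInstance : N.Normal).conj_mem n hn q) with b | b | b
    · exact absurd (by simpa [fn] using b) s1
    · rw [b, d1]
    · rw [b, d2]) (n := 5) rfl
  have ek : N = r.ker := by
    ext q
    rw [MonoidHom.mem_ker, hr]
    refine ⟨fun hq x hx => ?_, fun hq => eN.ge (t' q (a8_fix _ (E.ev q) (hq _ (by simp))
      (hq _ (by simp)) (hq _ (by simp)) (hq _ (by simp)) (hq _ (by simp))))⟩
    rcases t q hq with b | b | b
    · rw [b]; rfl
    · rw [b, ← d1]; exact hx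
    · rw [b, ← d2]; exact hx
  refine ⟨?_, ?_⟩
  · rw [eN, Nat.card_zpowers]
    exact orderOf_eq_prime (E.inj (by rw [map_pow, fn, map_one]; exact pd!))
      fun a => s1 (by rw [← fn, a, map_one])
  have hi : Injective (QuotientGroup.lift N r ek.le) := by
    rw [injective_iff_map_eq_one]
    rintro ⟨q⟩ hq
    exact (QuotientGroup.eq_one_iff q).2 (ek.ge hq)
  refine alt_or_sym _ hi ?_
  have := hN.isNilpotent
  have := sixty_le (Q := Q ⧸ N)
    (fun a => h ((Group.isSolvable_iff_subgroup_quotient N).2 ⟨inferInstance, a⟩))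
    (by have := card_dvd_of_injective _ hi; rwa [Nat.card_perm, Nat.card_fin] at this)
  rw [show Nat.factorial 5 = 120 from rfl]
  omega

theorem syl7 [Finite Q] {x : Q} (hx : x ^ 7 = 1) (h1 : x ≠ 1) : Nat.card 𝐍[zpowers x] ∣ 63 ∧
    ∃ P : Sylow 7 Q, (P : Subgroup Q) = zpowers x := by
  have := Fact.mk (by norm_num : Nat.Prime 7)
  have ho : Nat.card (zpowers x) = 7 := by rw [Nat.card_zpowers, orderOf_eq_prime hx h1]
  have h : ∀ y : 𝐍[zpowers x], y ^ 21 = 1 := fun y =>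
    Subtype.ext (E.n7 hx h1 ((mem_normalizer_iff.1 y.2 x).1 (mem_zpowers x)))
  refine ⟨((cop_of_pow Nat.prime_two h (by norm_num)).pow_right 6).dvd_of_dvd_mul_right
    ((cop_of_pow Nat.prime_five h (by norm_num)).dvd_of_dvd_mul_right (E.sub _).card_dvd),
    (IsPGroup.of_card (n := 1) ho).toSylow fun e => ?_, rfl⟩
  have h2 := E.card_dvd
  rw [← (zpowers x).index_mul_card, ho] at h2
  exact absurd ((Nat.mul_dvd_mul_right e 7).trans h2) (by norm_num)

omit E in
theorem ex7 [Finite Q] (h : 7 ∣ Nat.card Q) : ∃ x : Q, x ^ 7 = 1 ∧ x ≠ 1 := by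
  have := Fact.mk (by norm_num : Nat.Prime 7)
  obtain ⟨x, hx⟩ := exists_prime_orderOf_dvd_card' 7 h
  exact ⟨x, hx ▸ pow_orderOf_eq_one x, fun e => by simp [e] at hx⟩

theorem card_ne [Finite Q] : Nat.card Q ≠ 1120 ∧ Nat.card Q ≠ 1680 ∧ Nat.card Q ≠ 3360 := by
  by_cases h : 7 ∣ Nat.card Q
  · have := Fact.mk (by norm_num : Nat.Prime 7)
    obtain ⟨x, hx, h1⟩ := ex7 h
    obtain ⟨h2, P, hP⟩ := E.syl7 hx h1
    have h3 := card_sylow_modEq_one 7 Q
    have h4 := 𝐍[zpowers x].index_mul_card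
    rw [P.card_eq_index_normalizer, ← P.coe_coe, hP] at h3
    have h5 := Nat.le_of_dvd (by norm_num) h2
    unfold Nat.ModEq at h3
    generalize Nat.card 𝐍[zpowers x] = a at *
    interval_cases a <;> omega
  · omega

theorem of_cycle [Finite Q] {K : Subgroup Q} [hK : K.Normal] (hs : IsSimpleGroup K)
    (hna : ¬ IsMulCommutative K) (hC : 𝐂[K] = ⊥) (h : 9 ∣ Nat.card Q ∨ 64 ∣ Nat.card Q) :
    ∃ n, 5 ≤ n ∧ n ≤ 8 ∧
      (Nonempty (Q ≃* alternatingGroup (Fin n)) ∨ Nonempty (Q ≃* Perm (Fin n))) := by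
  have e := K.equivMapOfInjective f E.inj
  have h1 : IsQuasisimple (K.map f) := PLocal.qs_of_simple e.symm.isSimpleGroup fun a =>
    hna ⟨⟨fun x y => e.injective (by rw [map_mul, map_mul, a.1.1])⟩⟩
  have h2 : K.map f ≤ f.range := map_le_range f K
  have h3 : f.range ≤ 𝐍[K.map f] := by
    rw [f.range_eq_map]
    exact (map_mono le_normalizer_of_normal).trans (le_normalizer_map f)
  have h4 : ∀ q, f q ∈ 𝐂[K.map f] → q = 1 := fun q hq =>
    mem_bot.1 (hC.le fun k hk => E.inj (by rw [map_mul, map_mul]; exact hq _ ⟨k, hk, rfl⟩))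
  obtain ⟨t, ht, h5⟩ : ∃ t ∈ f.range, IsThreeCycle t := by
    rcases h with h | h
    · have := Fact.mk Nat.prime_three
      obtain ⟨T, hT⟩ := Sylow.exists_subgroup_card_pow_prime 3 (n := 2) h
      rw [← card_map_of_injective E.inj] at hT
      have hR : IsSyl 3 (T.map f) ⊤ := isSyl_of_not_dvd_relIndex (.of_card hT) le_top (by
        have := (T.map f).index_mul_card
        rw [hT, Nat.card_perm, Nat.card_fin, show Nat.factorial 8 = 40320 from rfl] at this
        rw [relIndex_top_right]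
        omega)
      obtain ⟨g, -, hg⟩ := isSyl_exists_conj_mem hR (mem_top s3) pd!
      refine ⟨_, map_le_range f T hg, ?_⟩
      rw [IsThreeCycle, cycleType_conj]
      exact card_support_eq_three_iff.1 pd!
    · obtain ⟨T, hT⟩ := Sylow.exists_subgroup_card_pow_prime 2 (n := 6) h
      rw [← card_map_of_injective E.inj] at hT
      have hA : T.map f ≤ alternatingGroup (Fin 8) := by
        rintro _ ⟨q, -, rfl⟩
        exact E.ev q
      refine exists_threeCycle_of_sylow_two (by simp) h1 h2 h3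
        (isSyl_of_not_dvd_relIndex (.of_card hT) hA ?_) (map_le_range f T)
      have := ((T.map f).subgroupOf (alternatingGroup (Fin 8))).index_mul_card
      rw [Nat.card_congr (subgroupOfEquivOfLe hA).toEquiv, hT, nat_card_alternatingGroup,
        Nat.card_fin, show Nat.factorial 8 / 2 = 20160 from rfl] at this
      rw [relIndex]
      omega
  obtain ⟨D, h6, h7, h8⟩ := exists_eq_altOn_of_threeCycle h1 h2 h3
    (by rintro _ ⟨⟨q, rfl⟩, hq⟩; rw [h4 q hq, map_one]; exact one_mem _) ht h5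
  obtain ⟨r, hr⟩ := exists_restr f D (fun q => h8 ⟨q, rfl⟩) rfl
  refine ⟨D.card, h6, (Finset.card_le_univ _).trans (by simp), alt_or_sym r ?_ ?_⟩
  · rw [injective_iff_map_eq_one]
    exact fun q hq => h4 q fun k hk => commute_of_mem_altOn (h7 ▸ hk) ((hr q).1 hq)
  · obtain ⟨e'⟩ := nonempty_altOn_equiv D
    have : Nontrivial (Fin D.card) := Fin.nontrivial_iff_two_le.2 (by omega)
    have a := two_mul_nat_card_alternatingGroup (α := Fin D.card)
    rw [Nat.card_perm, Nat.card_fin, ← Nat.card_congr e'.toEquiv, ← h7,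
      ← Nat.card_congr e.toEquiv] at a
    have := K.card_le_card_group
    omega

theorem of_simple [Finite Q] {K : Subgroup Q} [hK : K.Normal] (hs : IsSimpleGroup K)
    (hna : ¬ IsMulCommutative K) (hC : 𝐂[K] = ⊥) :
    Nonempty (Q ≃* Matrix.ProjectiveSpecialLinearGroup (Fin 3) (ZMod 2)) ∨ ∃ n, 5 ≤ n ∧ n ≤ 8 ∧
      (Nonempty (Q ≃* alternatingGroup (Fin n)) ∨ Nonempty (Q ≃* Perm (Fin n))) := by
  by_cases h : 9 ∣ Nat.card Q ∨ 64 ∣ Nat.card Q
  · exact Or.inr (E.of_cycle hs hna hC h)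
  have h1 : Nat.card Q ∣ 3360 := by
    obtain ⟨c, hc⟩ := E.card_dvd
    have h2 : 2 ∣ c := by
      by_contra a
      exact h (Or.inr (((Nat.prime_two.coprime_iff_not_dvd.2 a).pow_left 6).dvd_of_dvd_mul_right
        (hc ▸ by norm_num)))
    have h3 : 3 ∣ c := by
      by_contra a
      exact h (Or.inl (((Nat.prime_three.coprime_iff_not_dvd.2 a).pow_left 2).dvd_of_dvd_mul_right
        (hc ▸ by norm_num)))
    obtain ⟨d, rfl⟩ : 6 ∣ c := by omega
    exact ⟨d, by nlinarith⟩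
  have h2 := (card_subgroup_dvd_card K).trans h1
  have h3 : Nat.card K = 60 ∨ Nat.card K = 168 := by
    have a := (E.sub K).card_ne
    have b : Nat.card K ≤ 1092 := by
      obtain ⟨c, hc⟩ := h2
      by_contra b
      have : c < 4 := by nlinarith
      interval_cases c <;> omega
    rcases S0496.result hna b with c | c | c | c | c | c
    exacts [Or.inl c, Or.inr c, absurd (c ▸ h2) (by norm_num), absurd (c ▸ h2) (by norm_num),
      absurd (c ▸ h2) (by norm_num), absurd (c ▸ h2) (by norm_num)]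
  rcases h3 with h3 | h3
  · obtain ⟨e⟩ := S0494.result h3
    let e' := MulEquiv.ofBijective _ (S2119.result 5 (by norm_num) (by norm_num))
    refine Or.inr ⟨5, le_rfl, by norm_num, alt_or_sym (e'.symm.toMonoidHom.comp
      ((MulAut.congr e).toMonoidHom.comp (MulAut.conjNormal : Q →* MulAut K))) ?_ ?_⟩
    · refine e'.symm.injective.comp ((MulAut.congr e).injective.comp ?_)
      rw [injective_iff_map_eq_one]
      refine fun q hq => mem_bot.1 (hC.le fun k hk => ?_)
      have := congrArg (fun s : MulAut K => (s ⟨k, hk⟩ : Q)) hq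
      exact (mul_inv_eq_iff_eq_mul.1 this).symm
    · have := K.card_le_card_group
      rw [show Nat.factorial 5 = 120 from rfl]
      omega
  · have := Fact.mk (by norm_num : Nat.Prime 7)
    obtain ⟨x, hx, x1⟩ := ex7 (Q := K) (h3 ▸ by norm_num)
    obtain ⟨a, P, hP⟩ := E.syl7 (x := x) (congrArg Subtype.val hx) fun e => x1 (Subtype.ext e)
    have b := Sylow.normalizer_sup_eq_top' P (hP ▸ zpowers_le.2 x.2)
    rw [← P.coe_coe, hP] at b
    have c : K.index ∣ 63 := by
      rw [← relIndex_top_right, ← b, relIndex_sup_right]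
      exact (relIndex_dvd_card _ _).trans a
    have d : K.index ∣ 20 := by
      rw [← K.index_mul_card, h3] at h1
      exact Nat.dvd_of_mul_dvd_mul_right (by norm_num) h1
    have e : K = ⊤ := index_eq_one.1 (Nat.eq_one_of_dvd_coprimes (by norm_num) c d)
    obtain ⟨e1⟩ := S0495.result h3 (ZMod.card 7)
    obtain ⟨e2⟩ := S0255.result (ZMod.card 7) (ZMod.card 2)
    exact Or.inl ⟨(topEquiv.symm.trans (MulEquiv.subgroupCongr e.symm)).trans (e1.trans e2)⟩

theorem main [Finite Q] (h : ¬ Group.IsSolvable Q) (h2 : pCore 2 Q = ⊥) :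
    Nonempty (Q ≃* Matrix.ProjectiveSpecialLinearGroup (Fin 3) (ZMod 2)) ∨
      (∃ n : ℕ, 5 ≤ n ∧ n ≤ 8 ∧ Nonempty (Q ≃* alternatingGroup (Fin n))) ∨
      (∃ n : ℕ, 5 ≤ n ∧ n ≤ 7 ∧ Nonempty (Q ≃* Perm (Fin n))) ∨
      (Nat.card (pCore 3 Q) = 3 ∧ (Nonempty (Q ⧸ pCore 3 Q ≃* alternatingGroup (Fin 5)) ∨
        Nonempty (Q ⧸ pCore 3 Q ≃* Perm (Fin 5)))) := by
  by_cases h3 : pCore 3 Q = ⊥
  swap
  · exact Or.inr (Or.inr (Or.inr (E.three h (Grp.pCore_isPGroup 3 Q) h3)))
  have hF : fittingSubgroup Q = ⊥ := Grp.fitting_eq_bot_iff.2 fun p hp => by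
    have := Fact.mk hp
    by_contra a
    obtain ⟨k, hk⟩ := IsPGroup.iff_card.1 (Grp.pCore_isPGroup p Q)
    have b : p ∣ 2 ^ 6 * 3 ^ 2 * 5 * 7 :=
      ((hk ▸ dvd_pow_self p fun e => a (card_eq_one.1 (by rw [hk, e, pow_zero])) :
        p ∣ Nat.card (pCore p Q)).trans (card_subgroup_dvd_card _)).trans E.card_dvd
    rw [hp.dvd_mul, hp.dvd_mul, hp.dvd_mul] at b
    rcases b with ((b | b) | b) | b
    · exact a ((Nat.prime_dvd_prime_iff_eq hp Nat.prime_two).1 (hp.dvd_of_dvd_pow b) ▸ h2)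
    · exact a ((Nat.prime_dvd_prime_iff_eq hp Nat.prime_three).1 (hp.dvd_of_dvd_pow b) ▸ h3)
    · exact a (E.core_eq h (Or.inl ((Nat.prime_dvd_prime_iff_eq hp Nat.prime_five).1 b)))
    · exact a (E.core_eq h (Or.inr ((Nat.prime_dvd_prime_iff_eq hp (by norm_num)).1 b)))
  have : Nontrivial Q := by
    by_contra a
    rw [not_nontrivial_iff_subsingleton] at a
    exact h inferInstance
  obtain ⟨K, hK, hs, hna, hC⟩ := Gold.Int.exists_simple hF fun K L hK hL _ => by
    by_contra a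
    obtain ⟨x, x1, hx⟩ := (E.sub K).ex57 (PLocal.qs_not_solvable hK.2)
    refine PLocal.qs_not_solvable hL.2 (E.solv_cen (x := x) (fun e => x1 (Subtype.ext e))
      (hx.imp (congrArg Subtype.val) (congrArg Subtype.val)) fun y hy => ?_)
    exact (commutatorElement_eq_one_iff_commute.1 (mem_bot.1 ((PLocal.comp_commute_of_ne hK hL a).le
      (commutator_mem_commutator x.2 hy)))).symm
  rcases E.of_simple hs hna hC with a | ⟨n, a, b, c | ⟨⟨c⟩⟩⟩
  · exact Or.inl a
  · exact Or.inr (Or.inl ⟨n, a, b, c⟩)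
  · refine Or.inr (Or.inr (Or.inl ⟨n, a, ?_, ⟨c⟩⟩))
    by_contra d
    obtain rfl : n = 8 := by omega
    have := E.card_dvd
    rw [Nat.card_congr c.toEquiv, Nat.card_perm, Nat.card_fin] at this
    exact absurd this (by decide)

end Emb

end Cfsg.Agent.GHE
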